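import Groth.Agent.S10426
import Groth.Agent.S10084
import Groth.Agent.AlgSpCov.BddCharts
import Groth.Agent.AlgSpCov.DegreeStrata
import Groth.Agent.AlgSpCov.QfBdd
import Groth.Agent.Wt.ConstrInt
import Groth.Agent.AlgSpB.IdealApprox.Main
import Groth.Agent.AlgSpSpec.Approx

/-!
# The degree of an affine étale chart and closed subspaces of finite presentation
-/

universe u

open CategoryTheory CategoryTheory.Limits AlgebraicGeometry Opposite TopologicalSpace Topology

set_option backward.isDefEq.respectTransparency false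
set_option backward.isDefEq.respectTransparency.types false
set_option autoImplicit false

noncomputable section

namespace Groth.Agent.AlgSpB.Strata88

open _root_.AlgSp Groth.Agent.AlgSp Groth.Agent.AlgSpCov Groth.Agent.Wt

variable {S : Scheme.{u}} [QuasiSeparatedSpace ↥S]

/-- In a quasi-compact quasi-separated prespectral space constructible sets are compact. -/
theorem isCompact_of_isConstructible {U : Scheme.{u}} [IsAffine U] {s : Set ↥U} (hs : IsConstructible s) :
    IsCompact s := by
  let b : U.affineOpens → Set ↥U := fun W => (W.1 : Set ↥U)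
  have : Nonempty U.affineOpens := ⟨⟨⊥, isAffineOpen_bot U⟩⟩
  have hb : IsTopologicalBasis (Set.range b) := by
    have e : Set.range b = ((↑) : U.Opens → Set ↥U) '' U.affineOpens := by
      ext t
      constructor
      · rintro ⟨W, rfl⟩; exact ⟨W.1, W.2, rfl⟩
      · rintro ⟨W, hW, rfl⟩; exact ⟨⟨W, hW⟩, rfl⟩
    rw [e]
    exact U.isBasis_affineOpens
  induction s, hs using IsConstructible.induction_of_isTopologicalBasis b hb (fun i => i.2.isCompact) with
  | sdiff i s hs => exact i.2.isCompact.diff (isOpen_biUnion fun j _ => j.1.2)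
  | union s hs t ht h1 h2 => exact h1.union h2

/-- The chart data of an affine étale chart of a quasi-separated space. -/
theorem chart_good (X : Space S) (hqs : IsQuasiSeparatedSp X.obj) {V : Over S} [IsAffine V.left]
    (r : (yon S).obj V ⟶ X.obj) (hr : RepWith @Etale r) :
    RepWith @Flat r ∧ RepWith @LocallyOfFinitePresentation r ∧ RepWith @IsSeparated r ∧
      RepWith @LocallyQuasiFinite r ∧ RepWith @QuasiCompact r := by
  refine ⟨repWith_mono (fun g (hg : Etale g) => (inferInstance : Flat g)) hr,
    repWith_mono (fun g (hg : Etale g) => (inferInstance : LocallyOfFinitePresentation g)) hr,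
    ⟨hr.1, fun B A g fst snd sq => ?_⟩,
    repWith_mono (fun g (hg : Etale g) => AlgSpB.locallyQuasiFinite_of_etale g) hr,
    (repWith_quasiCompact_iff X.property r hr.1).2
      (isQuasiCompactMor_of_quasiCompactSp (IsAlgSpace.yon_obj V) X.property r (isQuasiCompactSp_yon V) hqs)⟩
  obtain ⟨a, rfl⟩ := (yon S).map_surjective fst
  let P := Over.mk (a.left ≫ V.hom)
  let m : A ⟶ Over.mk (pullback.fst V.hom B.hom ≫ V.hom) :=
    Over.homMk (pullback.lift a.left snd.left (by rw [Over.w a, Over.w snd])) (by simp)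
  have : Mono m.left := ⟨fun {W} c c' h => by
    let C : Over.mk (c ≫ A.hom) ⟶ A := Over.homMk c rfl
    let C' : Over.mk (c ≫ A.hom) ⟶ A := Over.homMk c' (by
      have := congrArg (fun k => k ≫ pullback.fst _ _ ≫ V.hom) h
      simpa [m] using this.symm)
    have e1 : C ≫ a = C' ≫ a := by
      ext1
      have := congrArg (fun k => k ≫ pullback.fst _ _) h
      simpa [C, C', m] using this
    have e2 : C ≫ snd = C' ≫ snd := by
      ext1
      have := congrArg (fun k => k ≫ pullback.snd _ _) h
      simpa [C, C', m] using this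
    exact congrArg CommaMorphism.left ((yon S).map_injective (sq.hom_ext
      (((yon S).map_comp C a).symm.trans ((congrArg (yon S).map e1).trans ((yon S).map_comp C' a)))
      (((yon S).map_comp C snd).symm.trans ((congrArg (yon S).map e2).trans ((yon S).map_comp C' snd)))))⟩
  have : IsSeparated m.left := inferInstance
  have : IsSeparated V.hom := by
    rw [isSeparated_iff]
    have : IsSeparated (terminal.from V.left) := inferInstance
    have h : IsSeparated (V.hom ≫ terminal.from S) := by rw [terminal.comp_from]; infer_instance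
    exact (IsSeparated.of_comp V.hom (terminal.from S)).1
  have h : IsSeparated (m.left ≫ pullback.snd V.hom B.hom) := inferInstance
  rwa [show m.left ≫ pullback.snd V.hom B.hom = snd.left from pullback.lift_snd _ _ _] at h

/-- An affine étale chart of a quasi-separated space has universally bounded fibres. -/
theorem chart_bdd (X : Space S) (hqs : IsQuasiSeparatedSp X.obj) {V : Over S} [IsAffine V.left]
    (r : (yon S).obj V ⟶ X.obj) (hr : RepWith @Etale r) : W4dec.HasUnivBddFibres r := by
  obtain ⟨R, a, b, sq⟩ := exists_pullback_yon hr.1 r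
  have : Etale b.left := hr.2 _ _ _ sq
  have : QuasiCompact b.left := (chart_good X hqs r hr).2.2.2.2.2 _ _ _ sq
  have : CompactSpace ↥R.left := QuasiCompact.compactSpace_of_compactSpace b.left
  have := AlgSpB.locallyQuasiFinite_of_etale b.left
  obtain ⟨n, hn⟩ := QfBdd.exists_bdd b.left
  refine Groth.Agent.S10426.result (X := X) (Y := ⟨(yon S).obj V, IsAlgSpace.yon_obj V⟩) (ObjectProperty.homMk r)
    hr.1 r _ _ sq ?_ ⟨n, BddCharts.degFibresLE_yon hn⟩
  rintro _ ⟨v, rfl⟩
  exact ⟨Points.ofScheme V v, (Points.ofPt_eq_map_ofScheme r v).symm⟩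

/-- The degree of an affine étale surjective chart: upper sets are compact opens, and over a level set
the chart is finite. -/
theorem exists_degree (X : Space S) (hqs : IsQuasiSeparatedSp X.obj) {V : Over S} [IsAffine V.left]
    (r : (yon S).obj V ⟶ X.obj) (hr : RepWith @Etale r) (hrs : RepWith @Surjective r) :
    ∃ (n : ℕ) (d : Points X.obj → ℤ), (∀ x, d x ≤ n) ∧ (∀ x, 0 ≤ d x) ∧
      (∀ c, IsOpen {x | c ≤ d x}) ∧ (∀ c, IsCompact {x | c ≤ d x}) ∧
      ∀ (Z : Space S) (g : Z.obj ⟶ X.obj) (k : ℕ), (∀ z, d (Points.map g z) = k) →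
        ∀ (Q : Sp S) (fst : Q ⟶ (yon S).obj V) (snd : Q ⟶ Z.obj), IsPullback fst snd r g → RepWith @IsFinite snd := by
  obtain ⟨hfl, hfp, hsep, hqf, hqcr⟩ := chart_good X hqs r hr
  obtain ⟨n, hn⟩ := chart_bdd X hqs r hr
  obtain ⟨d, hdn, hd0, hdc, hd⟩ := DegStrata.exists_degree hfl hfp hsep hqf hn
  obtain ⟨R, a, b, sq⟩ := exists_pullback_yon hr.1 r
  obtain ⟨i1, i2, i3, i4, i5⟩ := DegStrata.good hfl hfp hsep hqf hn sq
  have : QuasiCompact b.left := hqcr.2 _ _ _ sq
  have hfin : ∀ v, (b.left ⁻¹' {v}).Finite := fun v => (i5.finite_and_le v).1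
  have hopen : ∀ c, IsOpen {x | c ≤ d x} := fun c => by
    have : {x | c ≤ d x} = {x | d x ≤ c - 1}ᶜ := by
      ext x
      simp only [Set.mem_ofPred_eq, Set.mem_compl_iff]
      omega
    rw [this]
    exact (hdc _).isOpen_compl
  refine ⟨n, d, hdn, hd0, hopen, fun c => ?_, fun Z g k hk Q fst snd sqQ => ?_⟩
  · have hpre : {x | c ≤ d x} = Points.ofPt r '' {v | c ≤ DegStrata.D b.left v} := by
      ext x
      constructor
      · intro hx
        obtain ⟨v, rfl⟩ := surjective_ofPt hrs x
        exact ⟨v, by rwa [Set.mem_ofPred_eq, hd _ _ r _ b sq v] at hx, rfl⟩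
      · rintro ⟨v, hv, rfl⟩
        rw [Set.mem_ofPred_eq, hd _ _ r _ b sq v]
        exact hv
    rw [hpre]
    refine IsCompact.image ?_ (Points.continuous_ofPt r)
    have hU : {v | c ≤ DegStrata.D b.left v} =
        ⋃ m ∈ Finset.Icc c (n : ℤ), {v | DegStrata.D b.left v = m} := by
      ext v
      have h1 := hdn (Points.ofPt r v)
      rw [hd _ _ r _ b sq v] at h1
      simp only [Set.mem_ofPred_eq, Set.mem_iUnion, Finset.mem_Icc]
      exact ⟨fun h => ⟨_, ⟨h, h1⟩, rfl⟩, fun ⟨m, ⟨hm, _⟩, e⟩ => e ▸ hm⟩
    rw [hU]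
    exact (Finset.Icc c (n : ℤ)).isCompact_biUnion fun m _ => isCompact_of_isConstructible
      (Wt.ConstrInt.isLocallyConstructible_fibreIntegral b.left (FlatWt.isWeighting_wt b.left) m).isConstructible
  · have hrep : Representable snd := (MorphismProperty.of_isPullback (P := RepWith @Etale) sqQ hr).1
    refine ⟨hrep, fun A B t p q sqA => ?_⟩
    have sq' := sqA.paste_horiz sqQ
    obtain ⟨j1, j2, j3, j4, j5⟩ := DegStrata.good hfl hfp hsep hqf hn sq'
    exact ((DegStrata.finLocFreeOfDeg_iff (fun v => (j5.finite_and_le v).1) k).2 fun v => by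
      rw [← hd _ _ _ _ q sq' v, ← Points.map_ofPt t g v]
      exact hk _).1.1

/-- A quasi-compact open has a closed complement of finite presentation. -/
theorem exists_closed_fp (X : Space S) (hqc : IsQuasiCompactSp X.obj) (hqs : IsQuasiSeparatedSp X.obj)
    {G : Set (Points X.obj)} (hG : IsOpen G) (hGc : IsCompact G) :
    ∃ (Z : Space S) (z : Z ⟶ X), RepWith @IsClosedImmersion z.hom ∧ IsFinitePresentationMor z.hom ∧
      Set.range (Points.map z.hom) = Gᶜ := by
  obtain ⟨U, j, hj, hjr⟩ := exists_openSubspace X hG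
  have : Mono j.hom := AlgSpB.mono_of_isOpenImmersion hj
  have hU : IsQuasiCompactSp U.obj := isQuasiCompactSp_of_compactSpace U.property ⟨by
    have ho : IsOpenMap (Points.map j.hom) := Groth.Agent.AlgSp.isOpenMap_map_of_repWith
      (repWith_mono (fun g (hg : IsOpenImmersion g) => (inferInstance : UniversallyOpen g)) hj)
    have := (IsOpenEmbedding.of_continuous_injective_isOpenMap (Points.continuous_map j.hom)
      (AlgSpB.injective_map_of_mono j.hom) ho).isInducing.isCompact_iff (s := Set.univ)
    rw [this, Set.image_univ, hjr]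
    exact hGc⟩
  obtain ⟨I, -, hfg, Z, z, ⟨hz, hzI⟩, hr⟩ := (Groth.Agent.S10084.result X hqc hqs U j hj).1 hU
  refine ⟨Z, z, hz, ?_, hr.trans (by rw [hjr])⟩
  obtain ⟨A, p, hA, hp, hps⟩ := Groth.Agent.AlgSpEN.exists_affine_atlas X hqc
  let E : EtOver X.obj := EtOver.mk p hp
  have : IsAffine E.obj.left.left := hA
  have hE : (idealOfRep hz.1).ideal E hA = RingHom.ker (EtOver.bcπ hz.1 E).left.appTop.hom := rfl
  have hker : (RingHom.ker (EtOver.bcπ hz.1 E).left.appTop.hom).FG := by
    rw [← hE, hzI]
    exact hfg E hA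
  let π := EtOver.bcπ hz.1 E
  have sqE := EtOver.isPullback_bcObj hz.1 E
  have : IsClosedImmersion π.left := hz.2 _ _ _ sqE
  obtain ⟨Q, hQ⟩ : ∃ Q, Q = π.left := ⟨_, rfl⟩
  have hlfp : LocallyOfFinitePresentation π.left := by
    have := isAffine_of_isAffineHom π.left
    rw [HasRingHomProperty.iff_of_isAffine (P := @LocallyOfFinitePresentation)]
    exact RingHom.FinitePresentation.of_surjective _ (π.left.app_surjective ⊤ (isAffineOpen_top _)) hker
  have hl : RepWith @LocallyOfFinitePresentation z.hom :=
    Groth.Agent.AlgSp.InfDescent.repWith_of_baseChange @LocallyOfFinitePresentation hz.1 hp hps sqE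
      ((repWith_yon_map_iff _ π).2 hlfp)
  exact Groth.Agent.AlgSpSpec.isFinitePresentationMor_of_affine Z.property X.property
    (repWith_mono (fun g (hg : IsClosedImmersion g) => (inferInstance : IsAffineHom g)) hz) hl

end Groth.Agent.AlgSpB.Strata88
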