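import Groth.Agent.AlgSpB.GenEtCover.Main
import Groth.Agent.S10068
import Groth.Agent.S10048
import Groth.Agent.AlgSpSpec.Approx
import Groth.Agent.AlgSpB.Strata88.Degree
import Groth.Agent.AlgSp.InfGlue
import Groth.Agent.AlgSp.Coprod

/-!
# Finite covers by schemes, finite étale over an affine open
-/

universe u

open CategoryTheory CategoryTheory.Limits AlgebraicGeometry Opposite TopologicalSpace

set_option backward.isDefEq.respectTransparency false
set_option backward.isDefEq.respectTransparency.types false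
set_option autoImplicit false

noncomputable section

namespace Groth.Agent.AlgSpB.Strata88

open _root_.AlgSp Groth.Agent.AlgSp

variable {S : Scheme.{u}} [QuasiSeparatedSpace ↥S]

set_option maxHeartbeats 2000000 in
/-- A finite scheme over a space, finite étale and surjective over an affine open over which an affine
chart is finite. -/
theorem exists_cover_open (X : Space S) (hqc : IsQuasiCompactSp X.obj) (hqs : IsQuasiSeparatedSp X.obj)
    {V : Over S} [IsAffine V.left] (r : (yon S).obj V ⟶ X.obj) (hr : RepWith @Etale r)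
    (hrs : RepWith @Surjective r) {W : Over S} [IsAffine W.left] (j : (yon S).obj W ⟶ X.obj)
    (hj : RepWith @IsOpenImmersion j)
    (hfin : ∀ (Q : Sp S) (fst : Q ⟶ (yon S).obj V) (snd : Q ⟶ (yon S).obj W),
      IsPullback fst snd r j → RepWith @IsFinite snd) :
    ∃ (Y : Over S) (g : (yon S).obj Y ⟶ X.obj), RepWith @IsFinite g ∧ RepWith @LocallyOfFinitePresentation g ∧
      Set.range (Points.ofPt j) ⊆ Set.range (Points.map g) ∧
      ∀ (P : Sp S) (fst : P ⟶ (yon S).obj Y) (snd : P ⟶ (yon S).obj W), IsPullback fst snd g j →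
        RepWith @IsFinite snd ∧ RepWith @Etale snd := by
  obtain ⟨E, π₁, π₂, sqE⟩ := exists_pullback_yon hr.1 j
  have hπf : IsFinite π₂.left := (repWith_yon_map_iff _ π₂).1 (hfin _ _ _ sqE)
  have hπe : Etale π₂.left := hr.2 _ _ _ sqE
  obtain ⟨T₀, τ₀, hτf, hτe, hτs, hsp⟩ := GenEtCover.exists_split π₂.left
  have : IsAffine T₀ := isAffine_of_isAffineHom τ₀
  let T : Over S := Over.mk (τ₀ ≫ W.hom)
  let τ : T ⟶ W := Over.homMk τ₀ rfl
  have : IsAffine T.left := ‹IsAffine T₀›
  let f := (yon S).map τ ≫ j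
  have := mono_of_isOpenImmersion hj
  have hsplit : ∀ O : V.left.Opens, IsAffineOpen O → ∀ (D : Over S) (dT : D ⟶ T)
      (d : D ⟶ Over.mk (O.ι ≫ V.hom)), IsPullback ((yon S).map dT) ((yon S).map d) f
        ((yon S).map (Over.homMk O.ι rfl : Over.mk (O.ι ≫ V.hom) ⟶ V) ≫ r) →
      D.left.IsSeparated → CompactSpace ↥D.left → Etale dT.left →
      ∀ z : ↥D.left, ∃ N : D.left.Opens, IsClosed (N : Set ↥D.left) ∧ z ∈ N ∧ Mono (N.ι ≫ dT.left) := by
    intro O hO D dT d sqD _ _ _ z
    let ιO : Over.mk (O.ι ≫ V.hom) ⟶ V := Over.homMk O.ι rfl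
    obtain ⟨dE, hdE⟩ := (yon S).map_surjective (sqE.lift ((yon S).map (d ≫ ιO)) ((yon S).map (dT ≫ τ)) (by
      rw [Functor.map_comp, Functor.map_comp, Category.assoc, Category.assoc]
      exact sqD.w.symm))
    have h1 : dE ≫ π₁ = d ≫ ιO := (yon S).map_injective (by rw [Functor.map_comp, hdE, sqE.lift_fst])
    have h2 : dE ≫ π₂ = dT ≫ τ := (yon S).map_injective (by rw [Functor.map_comp, hdE, sqE.lift_snd])
    obtain ⟨N, hN, hzN, hm⟩ := hsp D.left dE.left dT.left (congrArg CommaMorphism.left h2) z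
    refine ⟨N, hN, hzN, ⟨fun {W'} a c hac => ?_⟩⟩
    let A : Over.mk ((a ≫ N.ι) ≫ D.hom) ⟶ D := Over.homMk (a ≫ N.ι) rfl
    let C : Over.mk ((a ≫ N.ι) ≫ D.hom) ⟶ D := Over.homMk (c ≫ N.ι) (by
      change (c ≫ N.ι) ≫ D.hom = (a ≫ N.ι) ≫ D.hom
      rw [← Over.w dT]
      simp only [Category.assoc]
      simpa only [Category.assoc] using congrArg (fun m => m ≫ T.hom) hac.symm)
    have eT : A ≫ dT = C ≫ dT := by
      ext1
      simpa [A, C] using hac
    have eE : A ≫ dE = C ≫ dE := by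
      ext1
      simpa [A, C] using hm W' a c hac
    have : Mono ιO := by
      have : Mono ιO.left := inferInstanceAs (Mono O.ι)
      exact Over.mono_of_mono_left ιO
    have ed : A ≫ d = C ≫ d := by
      apply (cancel_mono ιO).1
      exact (Category.assoc _ _ _).trans ((congrArg (A ≫ ·) h1.symm).trans ((Category.assoc _ _ _).symm.trans
        ((congrArg (· ≫ π₁) eE).trans ((Category.assoc _ _ _).trans ((congrArg (C ≫ ·) h1).trans
          (Category.assoc _ _ _).symm)))))
    have hAC : A = C := (yon S).map_injective (sqD.hom_ext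
      (by rw [← Functor.map_comp, ← Functor.map_comp, eT])
      (by rw [← Functor.map_comp, ← Functor.map_comp, ed]))
    exact (cancel_mono N.ι).1 (congrArg CommaMorphism.left hAC)
  obtain ⟨Y, g, f', hn, hgi, hlift⟩ := SchCover.exists_scheme_of_split X hqs f r hr hrs hsplit
  obtain ⟨P₁, c, ν₁, sX⟩ := exists_pullback_yon hgi.1 j
  have sF : IsPullback (𝟙 _) ((yon S).map τ) f j := by
    have h1 : IsPullback (𝟙 ((yon S).obj T)) ((yon S).map τ) ((yon S).map τ) (𝟙 _) := IsPullback.of_id_fst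
    have h2 : IsPullback (𝟙 _) (𝟙 _) j j := IsKernelPair.id_of_mono j
    simpa using h1.paste_vert h2
  have hw : f' ≫ g = (yon S).map τ ≫ j := hn.1
  let f₁' : (yon S).obj T ⟶ (yon S).obj P₁ := sX.lift f' ((yon S).map τ) hw
  have hW' : IsAlgSpace ((yon S).obj W) := IsAlgSpace.yon_obj W
  have hsm : LocP @Smooth j := locP_smooth_of_etale
    (repWith_mono (fun g (hg : IsOpenImmersion g) => (inferInstance : Etale g)) hj)
  have hn₁ := (hn.baseChange X.property hW' hsm (f₁' := f₁') sF sX (sX.lift_snd f' _ hw)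
    ((sX.lift_fst f' _ hw).trans (Category.id_comp _).symm)).relNorm hW' (IsAlgSpace.yon_obj P₁)
  have hτ : IsIntegralMor ((yon S).map τ) :=
    (Groth.Agent.AlgSpD.isIntegralMor_iff _).2 ((repWith_yon_map_iff _ τ).2 (inferInstanceAs (IsIntegralHom τ₀)))
  have hnT : IsRelNormalization ((yon S).map τ) ((yon S).map τ) (𝟙 _) :=
    ⟨Category.id_comp _, hτ, fun Z _ π g _ hg => ⟨g, ⟨Category.id_comp _, hg⟩, fun h hh =>
      (Category.id_comp h).symm.trans hh.1⟩⟩
  obtain ⟨ε, -, hε⟩ := relNorm_iso hn₁ (IsAlgSpace.yon_obj P₁) (IsAlgSpace.yon_obj T) hnT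
  have het : ∀ (P : Sp S) (fst : P ⟶ (yon S).obj Y) (snd : P ⟶ (yon S).obj W), IsPullback fst snd g j →
      RepWith @IsFinite snd ∧ RepWith @Etale snd := fun P fst snd sq => by
    have e : snd = ((sq.isoIsPullback _ _ sX).trans ε).hom ≫ (yon S).map τ := by
      rw [Iso.trans_hom, Category.assoc, hε, IsPullback.isoIsPullback_hom_snd]
    rw [e]
    exact ⟨(MorphismProperty.cancel_left_of_respectsIso _ _ _).2 ((repWith_yon_map_iff _ τ).2 hτf),
      (MorphismProperty.cancel_left_of_respectsIso _ _ _).2 ((repWith_yon_map_iff _ τ).2 hτe)⟩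
  let Ys : Space S := ⟨(yon S).obj Y, IsAlgSpace.yon_obj Y⟩
  let Ws : Space S := ⟨(yon S).obj W, IsAlgSpace.yon_obj W⟩
  obtain ⟨hbf, hbe⟩ := het _ _ _ sX
  obtain ⟨I, _, hdir, _, D, t, c₀, hc₀, e, hD, hDa, ht, hcomp, hiso⟩ := Groth.Agent.S10068.result S
    (X := Ys) (Y := X) (ObjectProperty.homMk g) hn.2.1 hqc hqs Ws (ObjectProperty.homMk j) hj
    (Groth.Agent.AlgSp.isQuasiCompactSp_yon W) _ _ _ sX ((Groth.Agent.AlgSpD.isFiniteMor_iff _).2 hbf)
    (Groth.Agent.AlgSpSpec.isFinitePresentationMor_of_affine (IsAlgSpace.yon_obj P₁) Ws.property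
      (repWith_mono (fun g (hg : IsFinite g) => (inferInstance : IsAffineHom g)) hbf)
      (repWith_mono (fun g (hg : Etale g) => (inferInstance : LocallyOfFinitePresentation g)) hbe))
  have : IsDirectedOrder I := hdir
  have hfa : ∀ i, RepWith @IsAffineHom (t.app i) := fun i => repWith_mono
    (fun g (hg : IsFinite g) => (inferInstance : IsAffineHom g))
    ((Groth.Agent.AlgSpD.isFiniteMor_iff _).1 (ht i).1)
  have hqcqs := fun i => Groth.Agent.AlgSpSpec.qcqs_of_affine (hD i) X.property (hfa i) hqc hqs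
  obtain ⟨i, Y₁, η, -⟩ := SchStage.exists_stage r hr hD hDa (fun i => (hqcqs i).1) (fun i => (hqcqs i).2) t hc₀ e
    (g₀ := g) (fun i => by
      have := hcomp i
      rwa [← cancel_epi e.inv, e.inv_hom_id_assoc]) (fun y => by
      obtain ⟨W', k, hy, hk⟩ := hlift y
      exact ⟨W', hy, k, hk⟩)
  refine ⟨Y₁, η.hom ≫ t.app i, (MorphismProperty.cancel_left_of_respectsIso _ η.hom _).2
      ((Groth.Agent.AlgSpD.isFiniteMor_iff _).1 (ht i).1),
    (MorphismProperty.cancel_left_of_respectsIso _ η.hom _).2 (Groth.Agent.AlgSpCov.repWith_of_locP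
      Groth.Agent.AlgSpCov.etaleLocal_locallyOfFinitePresentation (hD i) X.property (hfa i).1 (ht i).2.1), ?_, ?_⟩
  · rintro _ ⟨w, rfl⟩
    obtain ⟨t', rfl⟩ := τ₀.surjective w
    refine ⟨Points.map (e.inv ≫ c₀.π.app i ≫ η.inv) (Points.ofPt f' t'), ?_⟩
    rw [← Points.map_comp, Category.assoc, Category.assoc, η.inv_hom_id_assoc]
    refine (congrArg (fun m => Points.map m (Points.ofPt f' t')) (hcomp i)).trans ?_
    change Points.map g (Points.ofPt f' t') = _
    rw [Points.map_ofPt, hn.1]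
    exact ofPt_map_comp τ j t'
  · intro P fst snd sq
    have sqi : IsPullback (fst ≫ η.hom) snd (t.app i) j := by
      refine sq.of_iso (Iso.refl _) η (Iso.refl _) (Iso.refl _) ?_ ?_ ?_ ?_ <;> simp
    let k : (yon S).obj P₁ ⟶ P := sqi.lift ((yon S).map c ≫ e.inv ≫ c₀.π.app i) ((yon S).map ν₁) (by
      rw [Category.assoc, Category.assoc, hcomp i]; exact sX.w)
    have : IsIso k := hiso i P _ snd sqi k (sqi.lift_fst _ _ _) (sqi.lift_snd _ _ _)
    have hk : snd = inv k ≫ (yon S).map ν₁ := by rw [IsIso.eq_inv_comp]; exact sqi.lift_snd _ _ _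
    rw [hk]
    exact ⟨(MorphismProperty.cancel_left_of_respectsIso _ _ _).2 hbf,
      (MorphismProperty.cancel_left_of_respectsIso _ _ _).2 hbe⟩

omit [QuasiSeparatedSpace ↥S] in
set_option maxHeartbeats 1000000 in
/-- Two morphisms out of schemes give one out of their disjoint union; finiteness and finite presentation
are inherited. -/
theorem exists_union {X : Space S} {Y₁ Y₂ : Over S} (g₁ : (yon S).obj Y₁ ⟶ X.obj) (g₂ : (yon S).obj Y₂ ⟶ X.obj)
    (h₁ : RepWith @IsFinite g₁) (h₂ : RepWith @IsFinite g₂) (h₁' : RepWith @LocallyOfFinitePresentation g₁)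
    (h₂' : RepWith @LocallyOfFinitePresentation g₂) :
    ∃ (Y : Over S) (g : (yon S).obj Y ⟶ X.obj) (i₁ : Y₁ ⟶ Y) (i₂ : Y₂ ⟶ Y),
      IsOpenImmersion i₁.left ∧ IsCompl (Set.range i₁.left) (Set.range i₂.left) ∧
      (yon S).map i₁ ≫ g = g₁ ∧ (yon S).map i₂ ≫ g = g₂ ∧
      RepWith @IsFinite g ∧ RepWith @LocallyOfFinitePresentation g := by
  let Y : Over S := Over.mk (coprod.desc Y₁.hom Y₂.hom)
  let i₁ : Y₁ ⟶ Y := Over.homMk coprod.inl (coprod.inl_desc _ _)
  let i₂ : Y₂ ⟶ Y := Over.homMk coprod.inr (coprod.inr_desc _ _)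
  have hcompl : IsCompl (Set.range i₁.left) (Set.range i₂.left) := isCompl_range_inl_inr Y₁.left Y₂.left
  have ho₁ : IsOpenImmersion i₁.left := inferInstanceAs (IsOpenImmersion coprod.inl)
  have ho₂ : IsOpenImmersion i₂.left := inferInstanceAs (IsOpenImmersion coprod.inr)
  let U : Bool → Over S := fun b => bif b then Y₁ else Y₂
  let gm : ∀ b, U b ⟶ Y := fun b => match b with | true => i₁ | false => i₂
  let sm : ∀ b, (yon S).obj (U b) ⟶ X.obj := fun b => match b with | true => g₁ | false => g₂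
  have hdis : ∀ {Z : Over S} (a : Z ⟶ Y₁) (b : Z ⟶ Y₂), a ≫ i₁ = b ≫ i₂ → IsEmpty Z.left := by
    intro Z a b h
    refine ⟨fun z => ?_⟩
    have : i₁.left (a.left z) = i₂.left (b.left z) := by
      rw [← Scheme.Hom.comp_apply, ← Scheme.Hom.comp_apply, ← Over.comp_left, ← Over.comp_left, h]
    exact Set.disjoint_left.1 hcompl.disjoint ⟨_, rfl⟩ ⟨_, this.symm⟩
  have hmono₁ : Mono i₁ := have : Mono i₁.left := inferInstance; Over.mono_of_mono_left i₁
  have hmono₂ : Mono i₂ := have : Mono i₂.left := inferInstance; Over.mono_of_mono_left i₂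
  obtain ⟨g, hg⟩ := InfGlue.exists_glue gm
    (fun b => match b with
      | true => (inferInstanceAs (Etale i₁.left))
      | false => (inferInstanceAs (Etale i₂.left)))
    (fun x => by
      rcases hcompl.codisjoint.top_le (Set.mem_univ x) with h | h
      · exact ⟨true, h⟩
      · exact ⟨false, h⟩) sm (fun b b' Z a a' h => by
      match b, b' with
      | true, true => rw [(cancel_mono i₁).1 h]
      | false, false => rw [(cancel_mono i₂).1 h]
      | true, false =>
        obtain ⟨l, hl⟩ := exists_hom_of_isEmpty (G := X.obj) (hdis a a' h)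
        exact (hl _).trans (hl _).symm
      | false, true =>
        obtain ⟨l, hl⟩ := exists_hom_of_isEmpty (G := X.obj) (hdis a' a h.symm)
        exact (hl _).trans (hl _).symm)
  have hg₁ : (yon S).map i₁ ≫ g = g₁ := hg true
  have hg₂ : (yon S).map i₂ ≫ g = g₂ := hg false
  have key : ∀ {A Q : Over S} (t : (yon S).obj A ⟶ X.obj) (q : Q ⟶ Y) (s : Q ⟶ A),
      IsPullback ((yon S).map q) ((yon S).map s) g t →
      IsFinite s.left ∧ LocallyOfFinitePresentation s.left := by
    intro A Q t q s sq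
    have sub : ∀ {Y' : Over S} (i : Y' ⟶ Y) [IsOpenImmersion i.left] (g' : (yon S).obj Y' ⟶ X.obj),
        (yon S).map i ≫ g = g' → RepWith @IsFinite g' → RepWith @LocallyOfFinitePresentation g' →
        IsFinite ((q.left ⁻¹ᵁ i.left.opensRange).ι ≫ s.left) ∧
          LocallyOfFinitePresentation ((q.left ⁻¹ᵁ i.left.opensRange).ι ≫ s.left) := by
      intro Y' i _ g' hg' hf hl
      let O := q.left ⁻¹ᵁ i.left.opensRange
      let Q' : Over S := Over.mk (O.ι ≫ Q.hom)
      let ιO : Q' ⟶ Q := Over.homMk O.ι rfl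
      let q'' : O.toScheme ⟶ Y'.left := IsOpenImmersion.lift i.left (O.ι ≫ q.left) (by
        rintro _ ⟨z, rfl⟩; exact z.2)
      have hq'' : q'' ≫ i.left = O.ι ≫ q.left := IsOpenImmersion.lift_fac _ _ _
      let q' : Q' ⟶ Y' := Over.homMk q'' (by
        change q'' ≫ Y'.hom = O.ι ≫ Q.hom
        rw [← Over.w i, reassoc_of% hq'', Over.w q])
      have h0 : IsPullback q'' O.ι i.left q.left :=
        IsOpenImmersion.isPullback _ _ _ _ hq''.symm (by simp [O])
      have sqO : IsPullback q' ιO i q := IsPullback.of_map (Over.forget S) (Over.OverMorphism.ext hq'') h0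
      have sq' : IsPullback ((yon S).map q') ((yon S).map (ιO ≫ s)) g' t := by
        rw [Functor.map_comp, ← hg']
        exact (sqO.flip.map (yon S)).flip.paste_vert sq
      exact ⟨hf.2 _ _ _ sq', hl.2 _ _ _ sq'⟩
    obtain ⟨f1, l1⟩ := sub i₁ g₁ hg₁ h₁ h₁'
    obtain ⟨f2, l2⟩ := sub i₂ g₂ hg₂ h₂ h₂'
    let O₁ := q.left ⁻¹ᵁ i₁.left.opensRange
    let O₂ := q.left ⁻¹ᵁ i₂.left.opensRange
    obtain ⟨hcol⟩ := nonempty_isColimit_binaryCofanMk_of_isCompl O₁.ι O₂.ι (by
      refine ⟨?_, ?_⟩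
      · rw [← Opens.coe_disjoint, Scheme.Opens.opensRange_ι, Scheme.Opens.opensRange_ι]
        exact hcompl.disjoint.preimage q.left
      · rw [codisjoint_iff, eq_top_iff]
        intro z _
        rw [Scheme.Opens.opensRange_ι, Scheme.Opens.opensRange_ι]
        exact hcompl.codisjoint.top_le (Set.mem_univ (q.left z)))
    let θ := (coprodIsCoprod O₁.toScheme O₂.toScheme).coconePointUniqueUpToIso hcol
    have hθ : θ.hom ≫ s.left = coprod.desc (O₁.ι ≫ s.left) (O₂.ι ≫ s.left) := by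
      apply coprod.hom_ext
      · rw [coprod.inl_desc, ← Category.assoc]
        exact congrArg (· ≫ s.left) ((coprodIsCoprod O₁.toScheme O₂.toScheme).comp_coconePointUniqueUpToIso_hom hcol ⟨.left⟩)
      · rw [coprod.inr_desc, ← Category.assoc]
        exact congrArg (· ≫ s.left) ((coprodIsCoprod O₁.toScheme O₂.toScheme).comp_coconePointUniqueUpToIso_hom hcol ⟨.right⟩)
    refine ⟨(MorphismProperty.cancel_left_of_respectsIso @IsFinite θ.hom _).1 (hθ ▸ inferInstance),
      (MorphismProperty.cancel_left_of_respectsIso @LocallyOfFinitePresentation θ.hom _).1 (hθ ▸ ?_)⟩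
    rw [IsZariskiLocalAtSource.iff_of_openCover (P := (@LocallyOfFinitePresentation : MorphismProperty Scheme.{u}))
      (coprodOpenCover.{u, u} O₁.toScheme O₂.toScheme)]
    rintro (⟨⟨⟩⟩ | ⟨⟨⟩⟩)
    · exact (coprod.inl_desc (O₁.ι ≫ s.left) (O₂.ι ≫ s.left)).symm ▸ l1
    · exact (coprod.inr_desc (O₁.ι ≫ s.left) (O₂.ι ≫ s.left)).symm ▸ l2
  have hrep : Representable g := X.property.representable_from_yon g
  refine ⟨Y, g, i₁, i₂, ho₁, hcompl, hg₁, hg₂, ⟨hrep, fun A Q t q s sq => ?_⟩, ⟨hrep, fun A Q t q s sq => ?_⟩⟩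
  · obtain ⟨q, rfl⟩ := (yon S).map_surjective q
    exact (key t q s sq).1
  · obtain ⟨q, rfl⟩ := (yon S).map_surjective q
    exact (key t q s sq).2

end Groth.Agent.AlgSpB.Strata88
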