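import Groth.Agent.AlgSpB.Strata88.Degree
import Groth.Agent.AlgSpB.Art.GenericScheme
import Groth.Agent.AlgSp.LimOpen
import Groth.Agent.AlgSpB.IdealApprox.ThickScheme
import Groth.Agent.AlgSpB.SchStage.Main

/-!
# A finite list of quasi-compact opens with affine differences over which a chart is finite
-/

universe u

open CategoryTheory CategoryTheory.Limits AlgebraicGeometry Opposite TopologicalSpace Topology

set_option backward.isDefEq.respectTransparency false
set_option backward.isDefEq.respectTransparency.types false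
set_option autoImplicit false

noncomputable section

namespace Groth.Agent.AlgSpB.Strata88

open _root_.AlgSp Groth.Agent.AlgSp

variable {S : Scheme.{u}} [QuasiSeparatedSpace ↥S]

theorem isClosed_image_map {X Z : Sp S} {z : Z ⟶ X} (hz : RepWith @IsClosedImmersion z) {C : Set (Points Z)}
    (hC : IsClosed C) : IsClosed (Points.map z '' C) :=
  isClosedMap_map_of_repWith
    (repWith_mono (fun f (hf : IsClosedImmersion f) => (inferInstance : UniversallyClosed f)) hz) _ hC

/-- The trace of an open subspace on a closed subspace. -/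
theorem exists_piece (X : Space S) {Z : Space S} (z : Z ⟶ X) (hz : RepWith @IsClosedImmersion z.hom)
    {U : Space S} (jU : U ⟶ X) (hj : RepWith @IsOpenImmersion jU.hom) {W : Space S} (j : W ⟶ Z)
    (hjW : RepWith @IsOpenImmersion j.hom)
    (hr : Set.range (Points.map (j ≫ z).hom) = Set.range (Points.map z.hom) ∩ Set.range (Points.map jU.hom)) :
    ∃ w : W.obj ⟶ U.obj, IsPullback j.hom w z.hom jU.hom ∧ RepWith @IsClosedImmersion w := by
  have : Mono z.hom := mono_of_isClosedImmersion hz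
  obtain ⟨w, sq⟩ := LimOpen.exists_isPullback_open (f := z.hom) hjW hj (by
    ext x
    constructor
    · rintro ⟨y, rfl⟩
      have h : Points.map (j ≫ z).hom y ∈ Set.range (Points.map jU.hom) := (hr.le ⟨y, rfl⟩).2
      rw [Set.mem_preimage, ← Points.map_comp]
      exact h
    · intro hx
      obtain ⟨y, hy⟩ := hr.ge ⟨⟨x, rfl⟩, hx⟩
      exact ⟨y, injective_map_of_mono z.hom ((Points.map_comp j.hom z.hom y).symm.trans hy)⟩)
  exact ⟨w, sq, MorphismProperty.of_isPullback sq hz⟩

/-- A locally closed subspace over which an affine chart is finite étale is a scheme. -/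
theorem isRepresentable_of_finite {X Z : Space S} (z : Z ⟶ X) (hz : RepWith @IsClosedImmersion z.hom)
    {V : Over S} [IsAffine V.left] (r : (yon S).obj V ⟶ X.obj) (hr : RepWith @Etale r)
    (hrs : RepWith @Surjective r) {W : Space S} (j : W ⟶ Z) (hj : RepWith @IsOpenImmersion j.hom)
    (hfin : ∀ (Q : Sp S) (fst : Q ⟶ (yon S).obj V) (snd : Q ⟶ W.obj),
      IsPullback fst snd r (j.hom ≫ z.hom) → RepWith @IsFinite snd) :
    W.obj.obj.IsRepresentable := by
  obtain ⟨E₁, p₁, q₁, sq₁⟩ : ∃ (E₁ : Over S) (p₁ : E₁ ⟶ V) (q₁ : (yon S).obj E₁ ⟶ Z.obj),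
      IsPullback q₁ ((yon S).map p₁) z.hom r :=
    ⟨_, _, _, hz.1.isPullback r⟩
  have : IsClosedImmersion p₁.left := hz.2 _ _ _ sq₁
  have : IsAffine E₁.left := isAffine_of_isAffineHom p₁.left
  obtain ⟨E, e, a, sq₂⟩ : ∃ (E : Over S) (e : E ⟶ E₁) (a : (yon S).obj E ⟶ W.obj),
      IsPullback a ((yon S).map e) j.hom q₁ :=
    ⟨_, _, _, hj.1.isPullback q₁⟩
  have : IsOpenImmersion e.left := hj.2 _ _ _ sq₂
  have hf : RepWith @IsFinite a := hfin _ _ _ (sq₂.paste_vert sq₁).flip
  have he : RepWith @Etale a := MorphismProperty.of_isPullback (sq₂.paste_vert sq₁).flip hr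
  have hs : RepWith @Surjective a := MorphismProperty.of_isPullback (sq₂.paste_vert sq₁).flip hrs
  refine Art.isRepresentable_of_finite_etale W a hf he hs fun u => ?_
  obtain ⟨R, t, s, hR⟩ := exists_pullback_yon he.1 a
  have : IsFinite s.left := hf.2 _ _ _ hR
  let F : Set ↥E₁.left := e.left '' {u' | Points.ofPt a u' = Points.ofPt a u}
  have hF : F.Finite := (((s.left.finite_preimage_singleton u).image t.left).subset fun u' h => by
    obtain ⟨r', h1, h2⟩ := (ofPt_eq_ofPt_iff hR u' u).1 h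
    exact ⟨r', h2, h1⟩).image _
  obtain ⟨f, hfW, hfO⟩ := GrpdLib.exists_basicOpen_le_of_finite (isAffineOpen_top E₁.left)
    (U := e.left.opensRange) (O := F) hF (fun x hx => by
      obtain ⟨u', -, rfl⟩ := hx
      exact ⟨u', rfl⟩) (fun _ _ => trivial)
  exact ⟨e.left ⁻¹ᵁ E₁.left.basicOpen f, ((isAffineOpen_top E₁.left).basicOpen f).preimage_of_isOpenImmersion _ hfW,
    fun u' hu' => hfO ⟨u', hu', rfl⟩⟩

/-- The good property of an open relative to the previous ones. -/
def Good (X : Space S) {V : Over S} (r : (yon S).obj V ⟶ X.obj) (O : ℕ → Set (Points X.obj)) (l : ℕ) : Prop :=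
  ∀ (Z : Space S) (z : Z ⟶ X), RepWith @IsClosedImmersion z.hom →
    (∀ m < l, Disjoint (Set.range (Points.map z.hom)) (O m)) →
    ∀ (W : Space S) (j : W ⟶ Z), RepWith @IsOpenImmersion j.hom →
      Set.range (Points.map (j ≫ z).hom) = Set.range (Points.map z.hom) ∩ O l →
      (∃ T : Over S, IsAffine T.left ∧ Nonempty ((yon S).obj T ≅ W.obj)) ∧
      ∀ (Q : Sp S) (fst : Q ⟶ (yon S).obj V) (snd : Q ⟶ W.obj),
        IsPullback fst snd r (j.hom ≫ z.hom) → RepWith @IsFinite snd

set_option maxHeartbeats 1000000 in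
/-- The list of opens. -/
theorem exists_opens (X : Space S) (hqs : IsQuasiSeparatedSp X.obj) {V : Over S} [IsAffine V.left]
    (r : (yon S).obj V ⟶ X.obj) (hr : RepWith @Etale r) (hrs : RepWith @Surjective r) :
    ∃ (M : ℕ) (O : ℕ → Set (Points X.obj)), (∀ l, IsOpen (O l) ∧ IsCompact (O l)) ∧
      (⋃ l ∈ Finset.range M, O l) = Set.univ ∧ ∀ l < M, Good X r O l := by
  classical
  obtain ⟨n, d, hdn, hd0, hop, hcp, hfin⟩ := exists_degree X hqs r hr hrs
  suffices H : ∀ k : ℕ, k ≤ n + 1 → ∃ (M : ℕ) (O : ℕ → Set (Points X.obj)), (∀ l, IsOpen (O l) ∧ IsCompact (O l)) ∧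
      (⋃ l ∈ Finset.range M, O l) = {x | (n + 1 : ℤ) - k ≤ d x} ∧ ∀ l < M, Good X r O l by
    obtain ⟨M, O, h1, h2, h3⟩ := H (n + 1) le_rfl
    exact ⟨M, O, h1, h2.trans (Set.eq_univ_of_forall fun x => by
      have := hd0 x
      simp only [Set.mem_ofPred_eq]
      omega), h3⟩
  intro k
  induction k with
  | zero =>
    intro _
    refine ⟨0, fun _ => ∅, fun _ => ⟨isOpen_empty, isCompact_empty⟩, ?_, fun l hl => absurd hl (Nat.not_lt_zero l)⟩
    ext x
    have := hdn x
    simp only [Finset.range_zero, Finset.notMem_empty, Set.mem_iUnion, Set.mem_ofPred_eq, Set.mem_empty_iff_false]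
    constructor
    · rintro ⟨_, h, _⟩; exact h.elim
    · intro h; omega
  | succ k ih =>
    intro hk
    obtain ⟨M, O, hO, hU, hgood⟩ := ih (by omega)
    let c : ℕ := n - k
    have hc : (n + 1 : ℤ) - (k + 1 : ℕ) = c := by simp only [c]; omega
    let G₁ : Set (Points X.obj) := {x | (n + 1 : ℤ) - k ≤ d x}
    let G₀ : Set (Points X.obj) := {x | (c : ℤ) ≤ d x}
    obtain ⟨Zc, ic, hZc, hic⟩ := exists_redInduced X.property G₁ᶜ (hop _).isClosed_compl
    let Zs : Space S := ⟨Zc, hZc⟩
    let zc : Zs ⟶ X := ObjectProperty.homMk ic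
    have hzc : RepWith @IsClosedImmersion zc.hom := hic.1
    have hzr : Set.range (Points.map zc.hom) = G₁ᶜ := hic.2.1
    have : Mono zc.hom := mono_of_isClosedImmersion hzc
    obtain ⟨W₀, jW, hjW, hjWr⟩ := exists_openSubspace Zs ((hop (c : ℤ)).preimage (Points.continuous_map zc.hom))
    obtain ⟨U₀, jU, hjU, hjUr⟩ := exists_openSubspace X (hop (c : ℤ))
    have hrW : Set.range (Points.map (jW ≫ zc).hom) = Set.range (Points.map zc.hom) ∩ G₀ := by
      ext x
      constructor
      · rintro ⟨y, rfl⟩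
        refine ⟨⟨Points.map jW.hom y, (Points.map_comp _ _ _).symm⟩, ?_⟩
        rw [show (jW ≫ zc).hom = jW.hom ≫ zc.hom from rfl, Points.map_comp]
        exact hjWr.le ⟨y, rfl⟩
      · rintro ⟨⟨y, rfl⟩, hy⟩
        obtain ⟨w, rfl⟩ := hjWr.ge hy
        exact ⟨w, Points.map_comp _ _ _⟩
    have hlevel : ∀ x, x ∈ G₀ → x ∉ G₁ → d x = c := fun x h0 h1 => by
      simp only [G₀, G₁, Set.mem_ofPred_eq] at h0 h1
      simp only [c] at h0 ⊢
      omega
    have hd₀ : ∀ w, d (Points.map (jW.hom ≫ zc.hom) w) = c := fun w => by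
      have h := hrW.le ⟨w, rfl⟩
      rw [hzr] at h
      exact hlevel _ h.2 h.1
    have hrep : W₀.obj.obj.IsRepresentable := isRepresentable_of_finite zc hzc r hr hrs jW hjW
      (hfin W₀ _ c hd₀)
    obtain ⟨T, ⟨ε⟩⟩ := exists_iso_of_isRepresentable hrep
    obtain ⟨w₀, sqW, hw₀⟩ := exists_piece X zc hzc jU hjU jW hjW (hrW.trans (by rw [hjUr]))
    have hU₀qc : IsQuasiCompactSp U₀.obj := isQuasiCompactSp_of_compactSpace U₀.property ⟨by
      have : Mono jU.hom := mono_of_isOpenImmersion hjU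
      have ho : IsOpenMap (Points.map jU.hom) := isOpenMap_map_of_repWith
        (repWith_mono (fun g (hg : IsOpenImmersion g) => (inferInstance : UniversallyOpen g)) hjU)
      rw [(IsOpenEmbedding.of_continuous_injective_isOpenMap (Points.continuous_map jU.hom)
        (injective_map_of_mono jU.hom) ho).isInducing.isCompact_iff, Set.image_univ, hjUr]
      exact hcp _⟩
    have hTqc : CompactSpace ↥T.left := LimOpen.compactSpace_of_isQuasiCompactSp
      (SchStage.isQuasiCompactSp_of_iso ε.symm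
        ((isQuasiCompactMor_of_repWith U₀.property (repWith_mono
          (fun g (hg : IsClosedImmersion g) => (inferInstance : QuasiCompact g)) hw₀))
          U₀.property hU₀qc (𝟙 U₀.obj) (𝟙 W₀.obj) w₀ (IsPullback.of_horiz_isIso ⟨by simp⟩)))
    let 𝒰 := T.left.affineCover.finiteSubcover
    obtain ⟨N, ⟨eN⟩⟩ : ∃ N, Nonempty (Fin N ≃ 𝒰.I₀) := ⟨_, ⟨(Finite.equivFin 𝒰.I₀).symm⟩⟩
    let A : Fin N → Over S := fun i => Over.mk (𝒰.f (eN i) ≫ T.hom)
    let ia : ∀ i, A i ⟶ T := fun i => Over.homMk (𝒰.f (eN i)) rfl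
    let m : ∀ i, (yon S).obj (A i) ⟶ Zs.obj := fun i => (yon S).map (ia i) ≫ ε.hom ≫ jW.hom
    have hm : ∀ i, RepWith @IsOpenImmersion (m i) := fun i =>
      (repWith_isMultiplicative (S := S) @IsOpenImmersion).comp_mem _ _
        ((repWith_yon_map_iff _ (ia i)).2 (inferInstanceAs (IsOpenImmersion (𝒰.f (eN i)))))
        ((MorphismProperty.cancel_left_of_respectsIso _ ε.hom _).2 hjW)
    let P : Fin N → Set (Points X.obj) := fun i => Points.map zc.hom '' Set.range (Points.ofPt (m i))
    have hPG : ∀ i, P i ⊆ G₀ := by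
      rintro i _ ⟨_, ⟨a, rfl⟩, rfl⟩
      have h := (hrW.le ⟨Points.ofPt ((yon S).map (ia i) ≫ ε.hom) a, rfl⟩).2
      rwa [show (jW ≫ zc).hom = jW.hom ≫ zc.hom from rfl, Points.map_comp, Points.map_ofPt, Category.assoc] at h
    have hPcov : ∀ x, x ∈ G₀ → x ∉ G₁ → ∃ i, x ∈ P i := by
      intro x h0 h1
      obtain ⟨w, rfl⟩ := hrW.ge ⟨hzr.ge h1, h0⟩
      let t := Points.toScheme T (Points.map ε.inv w)
      obtain ⟨i, hi⟩ := eN.surjective (𝒰.idx t)
      obtain ⟨a, ha⟩ : ∃ a, 𝒰.f (eN i) a = t := by rw [hi]; exact 𝒰.covers t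
      refine ⟨i, _, ⟨a, rfl⟩, ?_⟩
      rw [show (jW ≫ zc).hom = jW.hom ≫ zc.hom from rfl, Points.map_comp]
      congr 1
      simp only [m]
      rw [ofPt_map_comp, show (ia i).left a = t from ha, ← Points.map_ofPt, Points.ofPt_eq_map_ofScheme,
        Points.ofScheme_toScheme, ← Points.map_comp ε.inv ε.hom, ε.inv_hom_id, Points.map_id]
    let O' : ℕ → Set (Points X.obj) := fun l =>
      if l < M then O l else if h : l - M < N then G₁ ∪ P ⟨l - M, h⟩ else ∅
    have hG₁ : ∀ i, G₁ ∪ P i = G₀ ∩ (Points.map zc.hom '' (Set.range (Points.ofPt (m i)))ᶜ)ᶜ := by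
      intro i
      ext x
      constructor
      · rintro (hx | hx)
        · refine ⟨by simp only [G₀, G₁, Set.mem_ofPred_eq, c] at hx ⊢; omega, ?_⟩
          rintro ⟨y, -, rfl⟩
          exact hzr.le ⟨y, rfl⟩ hx
        · refine ⟨hPG i hx, ?_⟩
          obtain ⟨y, hy, rfl⟩ := hx
          rintro ⟨y', hy', e⟩
          exact hy' (injective_map_of_mono zc.hom e ▸ hy)
      · rintro ⟨h0, h1⟩
        by_cases hx : x ∈ G₁
        · exact Or.inl hx
        · obtain ⟨y, rfl⟩ := hzr.ge hx
          exact Or.inr ⟨y, by_contra fun hy => h1 ⟨y, hy, rfl⟩, rfl⟩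
    have hopen : ∀ i, IsOpen (G₁ ∪ P i) := fun i => by
      rw [hG₁]
      exact (hop _).inter (isClosed_image_map hzc (isOpenMap_ofPt (repWith_mono (fun g (hg : IsOpenImmersion g) => (inferInstance : Etale g)) (hm i))).isOpen_range.isClosed_compl).isOpen_compl
    refine ⟨M + N, O', fun l => ?_, ?_, fun l hl => ?_⟩
    · simp only [O']
      split_ifs with h1 h2
      · exact hO l
      · have : IsAffine (A ⟨l - M, h2⟩).left := inferInstanceAs (IsAffine (𝒰.X _))
        exact ⟨hopen _, (hcp _).union ((isCompact_range (Points.continuous_ofPt _)).image (Points.continuous_map _))⟩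
      · exact ⟨isOpen_empty, isCompact_empty⟩
    · rw [hc]
      ext x
      simp only [Set.mem_iUnion, Finset.mem_range, exists_prop]
      constructor
      · rintro ⟨l, hl, hx⟩
        simp only [O'] at hx
        split_ifs at hx with h1 h2
        · have := hU.le (Set.mem_biUnion (Finset.mem_range.2 h1) hx)
          simp only [Set.mem_ofPred_eq, c] at this ⊢
          omega
        · exact ((hG₁ _).le hx).1
        · exact hx.elim
      · intro h0
        by_cases h1 : x ∈ G₁
        · obtain ⟨l, hl, hx⟩ := Set.mem_iUnion₂.1 (hU.ge h1)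
          exact ⟨l, by rw [Finset.mem_range] at hl; omega, by simp only [O', if_pos (Finset.mem_range.1 hl)]; exact hx⟩
        · obtain ⟨i, hi⟩ := hPcov x h0 h1
          refine ⟨M + i, by omega, ?_⟩
          simp only [O', if_neg (show ¬ M + (i : ℕ) < M by omega)]
          rw [dif_pos (show M + (i : ℕ) - M < N by omega)]
          exact Or.inr (by simpa only [show M + (i : ℕ) - M = i by omega, Fin.eta] using hi)
    intro Z z hz hdis W j hjo hjr
    by_cases hlM : l < M
    · exact hgood l hlM Z z hz (fun m hm => by simpa only [O', if_pos (hm.trans hlM)] using hdis m hm) W j hjo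
        (by simpa only [O', if_pos hlM] using hjr)
    let i : Fin N := ⟨l - M, by omega⟩
    have hjr' : Set.range (Points.map (j ≫ z).hom) = Set.range (Points.map z.hom) ∩ (G₁ ∪ P i) := by
      simpa only [O', if_neg hlM, dif_pos (show l - M < N by omega)] using hjr
    have hZG : Disjoint (Set.range (Points.map z.hom)) G₁ := by
      rw [show G₁ = ⋃ l ∈ Finset.range M, O l from hU.symm]
      refine Set.disjoint_iUnion₂_right.2 fun m hm => ?_
      have := Finset.mem_range.1 hm
      simpa only [O', if_pos this] using hdis m (by omega)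
    have hdW : ∀ w, d (Points.map (j.hom ≫ z.hom) w) = c := fun w => by
      have h := hjr'.le ⟨w, rfl⟩
      exact hlevel _ ((hG₁ i).le h.2).1 fun h1 => Set.disjoint_left.1 hZG h.1 h1
    refine ⟨?_, fun Q fst snd sq => hfin W _ c hdW Q fst snd sq⟩
    obtain ⟨Ui, jUi, hjUi, hjUir⟩ := exists_openSubspace X (hopen i)
    obtain ⟨wW, sqWU, hwW⟩ := exists_piece X z hz jUi hjUi j hjo (hjr'.trans (by rw [hjUir]))
    let As : Space S := ⟨(yon S).obj (A i), IsAlgSpace.yon_obj _⟩
    obtain ⟨a, sqA, ha⟩ := exists_piece X zc hzc jUi hjUi (W := As) (ObjectProperty.homMk (m i)) (hm i) (by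
      rw [hjUir, hzr]
      ext x
      constructor
      · rintro ⟨y, rfl⟩
        rw [show ((ObjectProperty.homMk (m i) : As ⟶ Zs) ≫ zc).hom = m i ≫ zc.hom from rfl]
        refine ⟨hzr.le ⟨Points.map (m i) y, (Points.map_comp _ _ _).symm⟩, Or.inr ?_⟩
        refine ⟨Points.map (m i) y, ⟨Points.toScheme _ y, ?_⟩, (Points.map_comp _ _ _).symm⟩
        rw [Points.ofPt_eq_map_ofScheme, Points.ofScheme_toScheme]
      · rintro ⟨h1, h2⟩
        rcases h2 with h2 | ⟨_, ⟨t, rfl⟩, rfl⟩
        · exact (h1 h2).elim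
        · refine ⟨Points.ofScheme (A i) t, ?_⟩
          rw [show ((ObjectProperty.homMk (m i) : As ⟶ Zs) ≫ zc).hom = m i ≫ zc.hom from rfl, Points.map_comp,
            Points.ofPt_eq_map_ofScheme])
    obtain ⟨R, b, c', sqR⟩ : ∃ (R : Over S) (b : R ⟶ A i) (c' : (yon S).obj R ⟶ W.obj),
        IsPullback c' ((yon S).map b) wW a := ⟨_, _, _, hwW.1.isPullback a⟩
    have : IsClosedImmersion b.left := hwW.2 _ _ _ sqR
    have : IsAffine (A i).left := inferInstanceAs (IsAffine (𝒰.X _))
    have : IsAffine R.left := isAffine_of_isAffineHom b.left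
    have hc' : RepWith @IsClosedImmersion c' := MorphismProperty.of_isPullback sqR.flip ha
    refine IdealApprox.exists_affine_of_thick' W c' hc' ((repWith_surjective_iff c' hc'.1).2 fun w => ?_)
    have hx := hjr'.le ⟨w, rfl⟩
    rcases hx.2 with h | ⟨_, ⟨t, rfl⟩, ht⟩
    · exact (Set.disjoint_left.1 hZG hx.1 h).elim
    · have : Mono jUi.hom := mono_of_isOpenImmersion hjUi
      obtain ⟨p, hp, -⟩ := exists_of_isPullback sqR w (Points.ofScheme (A i) t) (by
        refine injective_map_of_mono jUi.hom ?_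
        rw [← Points.map_comp, ← Points.map_comp, ← sqWU.w, ← sqA.w]
        change Points.map (j.hom ≫ z.hom) w = Points.map (m i ≫ zc.hom) (Points.ofScheme (A i) t)
        rw [Points.map_comp (m i) zc.hom, ← Points.ofPt_eq_map_ofScheme]
        exact ht.symm)
      exact ⟨p, hp⟩

end Groth.Agent.AlgSpB.Strata88
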